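import Groth.Agent.Lib.Helper29.AssocBundleMore
import Groth.Agent.S0082

/-!
# An fpqc torsor `φ : X ⟶ Y` under an affine group scheme over a field is affine and a geometric quotient
-/

set_option autoImplicit false
set_option maxHeartbeats 1600000
universe u
open CategoryTheory CategoryTheory.Limits AlgebraicGeometry MonoidalCategory CartesianMonoidalCategory
  MorphismProperty MonObj

namespace Groth.Agent.Lib.Helper28.TorsorGeomQuot

open Groth.Agent.Lib.Helper29

theorem main (k : Type u) [Field k]
    (G X Y : Over (Spec (CommRingCat.of k))) [GrpObj G] [IsAffine G.left]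
    (a : AlgGrp.Action G X) (φ : X ⟶ Y)
    (hcart : IsPullback a.act (snd G X) φ φ)
    (hloc : NonAbH1.IsLocallyTrivialFor Scheme.fpqcPrecoverage (Over.mk φ.left : Over Y.left)) :
    IsAffineHom φ.left ∧ GIT.IsGeomQuot a φ := by
  have Pq' : IsPullback a.act.left (snd G X).left φ.left φ.left := hcart.map (Over.forget _)
  have hinv : GIT.IsInvariant a φ := hcart.w
  obtain ⟨R, hR, hsec⟩ := hloc
  obtain ⟨κ, V, π, rfl⟩ := R.exists_eq_ofArrows
  choose s hs using fun l => hsec (π l) ⟨l⟩
  have hs' : ∀ l, s l ≫ φ.left = π l := hs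
  -- generic descent
  have gen : ∀ (P : MorphismProperty Scheme.{u}) [P.IsStableUnderBaseChange]
      [IsZariskiLocalAtTarget P]
      [P.DescendsAlong (@Surjective ⊓ @Flat ⊓ @QuasiCompact : MorphismProperty Scheme.{u})],
      P G.hom → P φ.left := by
    intro P _ _ _ hG
    have h1 : P (pullback.snd G.hom X.hom) := P.pullback_snd _ _ hG
    have h2 : P (pullback.snd φ.left φ.left) := by
      have e : Pq'.isoPullback.hom ≫ pullback.snd φ.left φ.left = (snd G X).left :=
        Pq'.isoPullback_hom_snd
      rw [← P.cancel_left_of_respectsIso Pq'.isoPullback.hom, e]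
      exact h1
    refine TorsorDesc.of_fpqc P φ.left hR (fun {U} g hg => ?_)
    obtain ⟨l⟩ := hg
    rw [TorsorDesc.snd_congr P φ.left (hs' l).symm]
    exact TorsorDesc.snd_comp P φ.left φ.left (s l) h2
  have hGaff : IsAffineHom G.hom := inferInstance
  have hGflat : Flat G.hom := inferInstance
  have hGsurj : Surjective G.hom := TorsorDesc.surjective_of_grp G
  have hGqc : QuasiCompact G.hom := inferInstance
  have haff : IsAffineHom φ.left := by
    haveI := Groth.Agent.S0082.result.{u}
    exact gen @IsAffineHom hGaff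
  have hflat : Flat φ.left := gen @Flat hGflat
  have hsurj : Surjective φ.left := gen @Surjective hGsurj
  have hqc : QuasiCompact φ.left := gen @QuasiCompact hGqc
  refine ⟨haff, hinv, hsurj.surj, ?_, ?_, ?_⟩
  · have e : GIT.PsiY a φ hinv = Pq'.isoPullback.hom := by
      apply pullback.hom_ext
      · rw [Pq'.isoPullback_hom_fst]
        exact pullback.lift_fst _ _ _
      · rw [Pq'.isoPullback_hom_snd]
        exact pullback.lift_snd _ _ _
    intro z
    refine ⟨Pq'.isoPullback.inv z, ?_⟩
    rw [e]
    show (Pq'.isoPullback.hom) ((Pq'.isoPullback.inv) z) = z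
    rw [← Scheme.Hom.comp_apply, Iso.inv_hom_id]
    rfl
  · exact AssocBundle.fpqc_le_univSubmersive _ ⟨⟨hsurj, hflat⟩, hqc⟩
  · intro U
    refine QuotGeom.sections_of_local φ.left a.act.left (snd G X).left U hinv.left
      (I₀ := κ) (Yc := V) π hR s hs' ?_
    intro Z x₁ x₂ h
    refine ⟨PUnit.{u+2}, fun _ => Z, fun _ => 𝟙 Z, ?_, fun _ => ⟨Pq'.lift x₁ x₂ h, ?_, ?_⟩⟩
    · rw [Presieve.ofArrows_pUnit]; exact Scheme.Hom.singleton_mem_fpqcPrecoverage (𝟙 Z)
    · rw [Pq'.lift_fst, Category.id_comp]
    · rw [Pq'.lift_snd, Category.id_comp]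

end Groth.Agent.Lib.Helper28.TorsorGeomQuot
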