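import Groth.Agent.Lib.Helper29.QuotGeom

/-!
# Geometric quotients descend along fpqc base change of the quotient (helper28)

* `abstract_descent`: the abstract descent argument for functions (morphisms to the affine line).
* `sections_iff`: the "functions on the base are the invariant functions" clause, in terms of morphisms to `A1`.
* `sections_descend`: that clause descends along an fpqc base change.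
* `main`: `GIT.IsGeomQuot` descends along an fpqc base change of the target.
-/

set_option autoImplicit false
set_option maxHeartbeats 1600000
universe u
open CategoryTheory CategoryTheory.Limits AlgebraicGeometry MonoidalCategory CartesianMonoidalCategory
  MorphismProperty MonObj

namespace Groth.Agent.Lib.Helper28.GeomQuotDescent

open Groth.Agent.Lib.Helper29 Groth.Agent.Lib.Helper29.InvFun Groth.Agent.Lib.Helper29.QuotGeom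

theorem cancel_of_dominant {V U : Scheme.{u}} (f : V ⟶ U) [IsSchemeTheoreticallyDominant f]
    [QuasiCompact f] (m1 m2 : U ⟶ A1.{u}) (h : f ≫ m1 = f ≫ m2) : m1 = m2 := by
  rw [← fn_val m1, ← fn_val m2] at h ⊢
  rw [comp_fn, comp_fn] at h
  have h1 := fn_injective h
  have h2 : val m1 = val m2 := f.app_injective ⊤ h1
  rw [h2]

theorem abstract_descent {Ub Vb Wb Ub' Vb' Wb' : Scheme.{u}}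
    (φU : Vb ⟶ Ub) (σW pW : Wb ⟶ Vb)
    (αU : Ub' ⟶ Ub) [Flat αU] [Surjective αU] [QuasiCompact αU]
    (prV : Vb' ⟶ Vb) (φ'U : Vb' ⟶ Ub') (hpb : IsPullback prV φ'U φU αU)
    [QuasiCompact φ'U] [IsSchemeTheoreticallyDominant φ'U]
    (σ'W p'W : Wb' ⟶ Vb') (gW : Wb' ⟶ Wb)
    (hσ : σ'W ≫ prV = gW ≫ σW) (hp : p'W ≫ prV = gW ≫ pW)
    (hII : ∀ n : Vb' ⟶ A1.{u}, σ'W ≫ n = p'W ≫ n → ∃ m : Ub' ⟶ A1.{u}, φ'U ≫ m = n) :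
    (∀ m1 m2 : Ub ⟶ A1.{u}, φU ≫ m1 = φU ≫ m2 → m1 = m2) ∧
    (∀ n : Vb ⟶ A1.{u}, σW ≫ n = pW ≫ n → ∃ m : Ub ⟶ A1.{u}, φU ≫ m = n) := by
  have hepiα : Epi αU := Flat.epi_of_flat_of_surjective αU
  have hflat_pr : Flat prV := MorphismProperty.of_isPullback (P := @Flat) hpb.flip inferInstance
  have hsurj_pr : Surjective prV :=
    MorphismProperty.of_isPullback (P := @Surjective) hpb.flip inferInstance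
  have hepipr : Epi prV := Flat.epi_of_flat_of_surjective prV
  constructor
  · intro m1 m2 h
    have h1 : φ'U ≫ (αU ≫ m1) = φ'U ≫ (αU ≫ m2) := by
      rw [← Category.assoc, ← Category.assoc, ← hpb.w, Category.assoc, Category.assoc, h]
    have h2 := cancel_of_dominant φ'U _ _ h1
    exact (cancel_epi αU).1 h2
  · intro n hn
    obtain ⟨m', hm'⟩ := hII (prV ≫ n) (by
      rw [← Category.assoc, ← Category.assoc, hσ, hp, Category.assoc, Category.assoc, hn])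
    have key : pullback.fst αU αU ≫ m' = pullback.snd αU αU ≫ m' := by
      refine cancel_of_dominant (pullback.snd φ'U (pullback.fst αU αU)) _ _ ?_
      have c1 : pullback.fst φ'U (pullback.fst αU αU) ≫ φ'U =
          pullback.snd φ'U (pullback.fst αU αU) ≫ pullback.fst αU αU := pullback.condition
      have c2 : pullback.fst αU αU ≫ αU = pullback.snd αU αU ≫ αU := pullback.condition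
      have hq2 : (pullback.fst φ'U (pullback.fst αU αU) ≫ prV) ≫ φU =
          (pullback.snd φ'U (pullback.fst αU αU) ≫ pullback.snd αU αU) ≫ αU := by
        calc (pullback.fst φ'U (pullback.fst αU αU) ≫ prV) ≫ φU
            = (pullback.fst φ'U (pullback.fst αU αU) ≫ φ'U) ≫ αU := by
              rw [Category.assoc, hpb.w, Category.assoc]
          _ = (pullback.snd φ'U (pullback.fst αU αU) ≫ pullback.snd αU αU) ≫ αU := by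
              rw [c1, Category.assoc, c2, Category.assoc]
      obtain ⟨q2, l1, l2⟩ : ∃ q2 : pullback φ'U (pullback.fst αU αU) ⟶ Vb',
          q2 ≫ prV = pullback.fst φ'U (pullback.fst αU αU) ≫ prV ∧
          q2 ≫ φ'U = pullback.snd φ'U (pullback.fst αU αU) ≫ pullback.snd αU αU :=
        ⟨hpb.lift _ _ hq2, hpb.lift_fst _ _ _, hpb.lift_snd _ _ _⟩
      calc pullback.snd φ'U (pullback.fst αU αU) ≫ pullback.fst αU αU ≫ m'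
          = (pullback.fst φ'U (pullback.fst αU αU) ≫ prV) ≫ n := by
            rw [← Category.assoc, ← c1, Category.assoc, hm', Category.assoc]
        _ = (q2 ≫ φ'U) ≫ m' := by
            rw [← l1, Category.assoc, ← hm', Category.assoc]
        _ = pullback.snd φ'U (pullback.fst αU αU) ≫ pullback.snd αU αU ≫ m' := by
            rw [l2, Category.assoc]
    have hcompat : ∀ {Z : Scheme.{u}} (g₁ g₂ : Z ⟶ Ub'), g₁ ≫ αU = g₂ ≫ αU →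
        g₁ ≫ m' = g₂ ≫ m' := by
      intro Z g₁ g₂ hg
      calc g₁ ≫ m' = (pullback.lift g₁ g₂ hg ≫ pullback.fst αU αU) ≫ m' := by
            rw [pullback.lift_fst]
        _ = (pullback.lift g₁ g₂ hg ≫ pullback.snd αU αU) ≫ m' := by
            rw [Category.assoc, key, ← Category.assoc]
        _ = g₂ ≫ m' := by rw [pullback.lift_snd]
    refine ⟨EffectiveEpi.desc αU m' (fun g₁ g₂ hg => hcompat g₁ g₂ hg), ?_⟩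
    rw [← cancel_epi prV, ← Category.assoc, hpb.w, Category.assoc, EffectiveEpi.fac, hm']

section Translate

variable {X₀ Y₀ Z₀ : Scheme.{u}} (q₀ : X₀ ⟶ Y₀) (σ p₂ : Z₀ ⟶ X₀) (U : Y₀.Opens)

theorem sections_iff (hw : σ ≫ q₀ = p₂ ≫ q₀) :
    (Function.Injective (q₀.app U) ∧ Set.range (q₀.app U) =
      {g | σ.appLE (q₀ ⁻¹ᵁ U) (σ ⁻¹ᵁ (q₀ ⁻¹ᵁ U) ⊓ p₂ ⁻¹ᵁ (q₀ ⁻¹ᵁ U)) inf_le_left g =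
           p₂.appLE (q₀ ⁻¹ᵁ U) (σ ⁻¹ᵁ (q₀ ⁻¹ᵁ U) ⊓ p₂ ⁻¹ᵁ (q₀ ⁻¹ᵁ U)) inf_le_right g}) ↔
    ((∀ m1 m2 : U.toScheme ⟶ A1.{u},
        q₀.resLE U (q₀ ⁻¹ᵁ U) le_rfl ≫ m1 = q₀.resLE U (q₀ ⁻¹ᵁ U) le_rfl ≫ m2 → m1 = m2) ∧
     (∀ n : (q₀ ⁻¹ᵁ U).toScheme ⟶ A1.{u},
        σ.resLE (q₀ ⁻¹ᵁ U) (σ ⁻¹ᵁ (q₀ ⁻¹ᵁ U) ⊓ p₂ ⁻¹ᵁ (q₀ ⁻¹ᵁ U)) inf_le_left ≫ n =
        p₂.resLE (q₀ ⁻¹ᵁ U) (σ ⁻¹ᵁ (q₀ ⁻¹ᵁ U) ⊓ p₂ ⁻¹ᵁ (q₀ ⁻¹ᵁ U)) inf_le_right ≫ n →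
        ∃ m : U.toScheme ⟶ A1.{u}, q₀.resLE U (q₀ ⁻¹ᵁ U) le_rfl ≫ m = n)) := by
  have F1 : q₀.resLE U (q₀ ⁻¹ᵁ U) le_rfl ≫ U.ι = (q₀ ⁻¹ᵁ U).ι ≫ q₀ :=
    Scheme.Hom.resLE_comp_ι q₀ le_rfl
  have F3 : ∀ f : Γ(Y₀, U), q₀.resLE U (q₀ ⁻¹ᵁ U) le_rfl ≫ fnO U f =
      fnO (q₀ ⁻¹ᵁ U) (q₀.app U f) := by
    intro f
    rw [resLE_comp_fnO, Scheme.Hom.appLE_eq_app]
  have G1 : σ.resLE (q₀ ⁻¹ᵁ U) (σ ⁻¹ᵁ (q₀ ⁻¹ᵁ U) ⊓ p₂ ⁻¹ᵁ (q₀ ⁻¹ᵁ U)) inf_le_left ≫ (q₀ ⁻¹ᵁ U).ι =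
      (σ ⁻¹ᵁ (q₀ ⁻¹ᵁ U) ⊓ p₂ ⁻¹ᵁ (q₀ ⁻¹ᵁ U)).ι ≫ σ := Scheme.Hom.resLE_comp_ι σ inf_le_left
  have H1 : p₂.resLE (q₀ ⁻¹ᵁ U) (σ ⁻¹ᵁ (q₀ ⁻¹ᵁ U) ⊓ p₂ ⁻¹ᵁ (q₀ ⁻¹ᵁ U)) inf_le_right ≫ (q₀ ⁻¹ᵁ U).ι =
      (σ ⁻¹ᵁ (q₀ ⁻¹ᵁ U) ⊓ p₂ ⁻¹ᵁ (q₀ ⁻¹ᵁ U)).ι ≫ p₂ := Scheme.Hom.resLE_comp_ι p₂ inf_le_right
  have G3 : ∀ g : Γ(X₀, q₀ ⁻¹ᵁ U),
      σ.resLE (q₀ ⁻¹ᵁ U) (σ ⁻¹ᵁ (q₀ ⁻¹ᵁ U) ⊓ p₂ ⁻¹ᵁ (q₀ ⁻¹ᵁ U)) inf_le_left ≫ fnO (q₀ ⁻¹ᵁ U) g =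
        fnO _ (σ.appLE (q₀ ⁻¹ᵁ U) (σ ⁻¹ᵁ (q₀ ⁻¹ᵁ U) ⊓ p₂ ⁻¹ᵁ (q₀ ⁻¹ᵁ U)) inf_le_left g) :=
    fun g => resLE_comp_fnO σ _ _ inf_le_left g
  have H3 : ∀ g : Γ(X₀, q₀ ⁻¹ᵁ U),
      p₂.resLE (q₀ ⁻¹ᵁ U) (σ ⁻¹ᵁ (q₀ ⁻¹ᵁ U) ⊓ p₂ ⁻¹ᵁ (q₀ ⁻¹ᵁ U)) inf_le_right ≫ fnO (q₀ ⁻¹ᵁ U) g =
        fnO _ (p₂.appLE (q₀ ⁻¹ᵁ U) (σ ⁻¹ᵁ (q₀ ⁻¹ᵁ U) ⊓ p₂ ⁻¹ᵁ (q₀ ⁻¹ᵁ U)) inf_le_right g) :=
    fun g => resLE_comp_fnO p₂ _ _ inf_le_right g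
  have INV : ∀ g : Γ(X₀, q₀ ⁻¹ᵁ U),
      (σ.appLE (q₀ ⁻¹ᵁ U) (σ ⁻¹ᵁ (q₀ ⁻¹ᵁ U) ⊓ p₂ ⁻¹ᵁ (q₀ ⁻¹ᵁ U)) inf_le_left g =
        p₂.appLE (q₀ ⁻¹ᵁ U) (σ ⁻¹ᵁ (q₀ ⁻¹ᵁ U) ⊓ p₂ ⁻¹ᵁ (q₀ ⁻¹ᵁ U)) inf_le_right g) ↔
      σ.resLE (q₀ ⁻¹ᵁ U) (σ ⁻¹ᵁ (q₀ ⁻¹ᵁ U) ⊓ p₂ ⁻¹ᵁ (q₀ ⁻¹ᵁ U)) inf_le_left ≫ fnO (q₀ ⁻¹ᵁ U) g =
        p₂.resLE (q₀ ⁻¹ᵁ U) (σ ⁻¹ᵁ (q₀ ⁻¹ᵁ U) ⊓ p₂ ⁻¹ᵁ (q₀ ⁻¹ᵁ U)) inf_le_right ≫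
          fnO (q₀ ⁻¹ᵁ U) g := by
    intro g
    rw [G3, H3]
    exact ⟨fun h => by rw [h], fun h => fnO_injective _ h⟩
  constructor
  · rintro ⟨hinj, hrange⟩
    refine ⟨fun m1 m2 h => ?_, fun n hn => ?_⟩
    · obtain ⟨f1, rfl⟩ := fnO_surjective U m1
      obtain ⟨f2, rfl⟩ := fnO_surjective U m2
      rw [F3, F3] at h
      rw [hinj (fnO_injective _ h)]
    · obtain ⟨g, rfl⟩ := fnO_surjective (q₀ ⁻¹ᵁ U) n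
      have hg : g ∈ Set.range (q₀.app U) := by
        rw [hrange]
        exact (INV g).2 hn
      obtain ⟨f, rfl⟩ := hg
      exact ⟨fnO U f, F3 f⟩
  · rintro ⟨hI, hII⟩
    refine ⟨fun f1 f2 h => fnO_injective U (hI _ _ (by rw [F3, F3, h])), ?_⟩
    ext g
    simp only [Set.mem_range, Set.mem_ofPred_eq]
    constructor
    · rintro ⟨f, rfl⟩
      rw [INV, ← F3]
      have hqq : σ.resLE (q₀ ⁻¹ᵁ U) (σ ⁻¹ᵁ (q₀ ⁻¹ᵁ U) ⊓ p₂ ⁻¹ᵁ (q₀ ⁻¹ᵁ U)) inf_le_left ≫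
          q₀.resLE U (q₀ ⁻¹ᵁ U) le_rfl =
          p₂.resLE (q₀ ⁻¹ᵁ U) (σ ⁻¹ᵁ (q₀ ⁻¹ᵁ U) ⊓ p₂ ⁻¹ᵁ (q₀ ⁻¹ᵁ U)) inf_le_right ≫
          q₀.resLE U (q₀ ⁻¹ᵁ U) le_rfl := by
        rw [← cancel_mono U.ι, Category.assoc, Category.assoc, F1, ← Category.assoc,
          ← Category.assoc, G1, H1, Category.assoc, Category.assoc, hw]
      rw [← Category.assoc, ← Category.assoc, hqq]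
    · intro hg'
      obtain ⟨m, hm⟩ := hII (fnO _ g) ((INV g).1 hg')
      obtain ⟨f, hf⟩ := fnO_surjective U m
      refine ⟨f, fnO_injective (q₀ ⁻¹ᵁ U) ?_⟩
      rw [← F3, hf, hm]

end Translate

theorem isPullback_resLE {X Y X' Y' : Scheme.{u}} {pr : X' ⟶ X} {φ' : X' ⟶ Y'} {φ : X ⟶ Y}
    {α : Y' ⟶ Y} (hpb : IsPullback pr φ' φ α) (U : Y.Opens)
    (e : φ' ⁻¹ᵁ (α ⁻¹ᵁ U) ≤ pr ⁻¹ᵁ (φ ⁻¹ᵁ U)) :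
    IsPullback (pr.resLE (φ ⁻¹ᵁ U) (φ' ⁻¹ᵁ (α ⁻¹ᵁ U)) e)
      (φ'.resLE (α ⁻¹ᵁ U) (φ' ⁻¹ᵁ (α ⁻¹ᵁ U)) le_rfl)
      (φ.resLE U (φ ⁻¹ᵁ U) le_rfl) (α.resLE U (α ⁻¹ᵁ U) le_rfl) := by
  have hA : IsPullback (φ.resLE U (φ ⁻¹ᵁ U) le_rfl) (φ ⁻¹ᵁ U).ι U.ι φ := by
    rw [Scheme.Hom.resLE_eq_morphismRestrict]
    exact isPullback_morphismRestrict φ U
  have hB : IsPullback (φ'.resLE (α ⁻¹ᵁ U) (φ' ⁻¹ᵁ (α ⁻¹ᵁ U)) le_rfl) (φ' ⁻¹ᵁ (α ⁻¹ᵁ U)).ι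
      (α ⁻¹ᵁ U).ι φ' := by
    rw [Scheme.Hom.resLE_eq_morphismRestrict]
    exact isPullback_morphismRestrict φ' _
  have big : IsPullback ((φ' ⁻¹ᵁ (α ⁻¹ᵁ U)).ι ≫ pr)
      (φ'.resLE (α ⁻¹ᵁ U) (φ' ⁻¹ᵁ (α ⁻¹ᵁ U)) le_rfl) φ ((α ⁻¹ᵁ U).ι ≫ α) :=
    hB.flip.paste_horiz hpb
  have e1 : pr.resLE (φ ⁻¹ᵁ U) (φ' ⁻¹ᵁ (α ⁻¹ᵁ U)) e ≫ (φ ⁻¹ᵁ U).ι =
      (φ' ⁻¹ᵁ (α ⁻¹ᵁ U)).ι ≫ pr := Scheme.Hom.resLE_comp_ι pr e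
  have e2 : α.resLE U (α ⁻¹ᵁ U) le_rfl ≫ U.ι = (α ⁻¹ᵁ U).ι ≫ α :=
    Scheme.Hom.resLE_comp_ι α le_rfl
  refine IsPullback.of_right (by rw [e1, e2]; exact big) ?_ hA.flip
  rw [← cancel_mono U.ι]
  simp only [Category.assoc, Scheme.Hom.resLE_comp_ι, Scheme.Hom.resLE_comp_ι_assoc]
  rw [hpb.w]

theorem dominant_of_injective {X Y : Scheme.{u}} (f : X ⟶ Y) [QuasiCompact f]
    (h : ∀ U : Y.Opens, Function.Injective (f.app U)) : IsSchemeTheoreticallyDominant f := by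
  rw [isSchemeTheoreticallyDominant_iff]
  apply Scheme.IdealSheafData.ext
  funext U
  rw [Scheme.Hom.ker_apply, Scheme.IdealSheafData.ideal_bot]
  exact (RingHom.injective_iff_ker_eq_bot _).1 (h U.1)

theorem sections_descend {X Y Z X' Y' Z' : Scheme.{u}} (φ : X ⟶ Y) (σ p₂ : Z ⟶ X)
    (hw : σ ≫ φ = p₂ ≫ φ)
    (α : Y' ⟶ Y) [Flat α] [Surjective α] [QuasiCompact α]
    (pr : X' ⟶ X) (φ' : X' ⟶ Y') (hpb : IsPullback pr φ' φ α) [QuasiCompact φ']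
    (σ' p₂' : Z' ⟶ X') (hw' : σ' ≫ φ' = p₂' ≫ φ') (g : Z' ⟶ Z)
    (hσ : σ' ≫ pr = g ≫ σ) (hp : p₂' ≫ pr = g ≫ p₂)
    (h' : ∀ U' : Y'.Opens, Function.Injective (φ'.app U') ∧ Set.range (φ'.app U') =
      {f | σ'.appLE (φ' ⁻¹ᵁ U') (σ' ⁻¹ᵁ (φ' ⁻¹ᵁ U') ⊓ p₂' ⁻¹ᵁ (φ' ⁻¹ᵁ U')) inf_le_left f =
           p₂'.appLE (φ' ⁻¹ᵁ U') (σ' ⁻¹ᵁ (φ' ⁻¹ᵁ U') ⊓ p₂' ⁻¹ᵁ (φ' ⁻¹ᵁ U')) inf_le_right f})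
    (U : Y.Opens) :
    Function.Injective (φ.app U) ∧ Set.range (φ.app U) =
      {f | σ.appLE (φ ⁻¹ᵁ U) (σ ⁻¹ᵁ (φ ⁻¹ᵁ U) ⊓ p₂ ⁻¹ᵁ (φ ⁻¹ᵁ U)) inf_le_left f =
           p₂.appLE (φ ⁻¹ᵁ U) (σ ⁻¹ᵁ (φ ⁻¹ᵁ U) ⊓ p₂ ⁻¹ᵁ (φ ⁻¹ᵁ U)) inf_le_right f} := by
  rw [sections_iff φ σ p₂ U hw]
  have hdom : IsSchemeTheoreticallyDominant φ' := dominant_of_injective φ' (fun U' => (h' U').1)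
  have eV : φ' ⁻¹ᵁ (α ⁻¹ᵁ U) ≤ pr ⁻¹ᵁ (φ ⁻¹ᵁ U) := by
    show (φ' ≫ α) ⁻¹ᵁ U ≤ (pr ≫ φ) ⁻¹ᵁ U
    rw [hpb.w]
  have hpbU := isPullback_resLE hpb U eV
  have hAα : IsPullback (α.resLE U (α ⁻¹ᵁ U) le_rfl) (α ⁻¹ᵁ U).ι U.ι α := by
    rw [Scheme.Hom.resLE_eq_morphismRestrict]
    exact isPullback_morphismRestrict α U
  have hB : IsPullback (φ'.resLE (α ⁻¹ᵁ U) (φ' ⁻¹ᵁ (α ⁻¹ᵁ U)) le_rfl) (φ' ⁻¹ᵁ (α ⁻¹ᵁ U)).ι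
      (α ⁻¹ᵁ U).ι φ' := by
    rw [Scheme.Hom.resLE_eq_morphismRestrict]
    exact isPullback_morphismRestrict φ' _
  haveI : Flat (α.resLE U (α ⁻¹ᵁ U) le_rfl) :=
    MorphismProperty.of_isPullback (P := @Flat) hAα.flip inferInstance
  haveI : Surjective (α.resLE U (α ⁻¹ᵁ U) le_rfl) :=
    MorphismProperty.of_isPullback (P := @Surjective) hAα.flip inferInstance
  haveI : QuasiCompact (α.resLE U (α ⁻¹ᵁ U) le_rfl) :=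
    MorphismProperty.of_isPullback (P := @QuasiCompact) hAα.flip inferInstance
  haveI : QuasiCompact (φ'.resLE (α ⁻¹ᵁ U) (φ' ⁻¹ᵁ (α ⁻¹ᵁ U)) le_rfl) :=
    MorphismProperty.of_isPullback (P := @QuasiCompact) hB.flip inferInstance
  haveI : IsSchemeTheoreticallyDominant (φ'.resLE (α ⁻¹ᵁ U) (φ' ⁻¹ᵁ (α ⁻¹ᵁ U)) le_rfl) :=
    IsSchemeTheoreticallyDominant.of_isPullback hB.flip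
  have eW : σ' ⁻¹ᵁ (φ' ⁻¹ᵁ (α ⁻¹ᵁ U)) ⊓ p₂' ⁻¹ᵁ (φ' ⁻¹ᵁ (α ⁻¹ᵁ U)) ≤
      g ⁻¹ᵁ (σ ⁻¹ᵁ (φ ⁻¹ᵁ U) ⊓ p₂ ⁻¹ᵁ (φ ⁻¹ᵁ U)) := by
    have e0 : g ⁻¹ᵁ (σ ⁻¹ᵁ (φ ⁻¹ᵁ U) ⊓ p₂ ⁻¹ᵁ (φ ⁻¹ᵁ U)) =
        σ' ⁻¹ᵁ (pr ⁻¹ᵁ (φ ⁻¹ᵁ U)) ⊓ p₂' ⁻¹ᵁ (pr ⁻¹ᵁ (φ ⁻¹ᵁ U)) := by
      show (g ≫ σ) ⁻¹ᵁ (φ ⁻¹ᵁ U) ⊓ (g ≫ p₂) ⁻¹ᵁ (φ ⁻¹ᵁ U) = _
      rw [← hσ, ← hp]
      rfl
    rw [e0]
    exact inf_le_inf (Scheme.Hom.preimage_mono _ eV) (Scheme.Hom.preimage_mono _ eV)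
  have hσW : σ'.resLE (φ' ⁻¹ᵁ (α ⁻¹ᵁ U)) _ inf_le_left ≫ pr.resLE (φ ⁻¹ᵁ U) (φ' ⁻¹ᵁ (α ⁻¹ᵁ U)) eV =
      g.resLE _ _ eW ≫ σ.resLE (φ ⁻¹ᵁ U) (σ ⁻¹ᵁ (φ ⁻¹ᵁ U) ⊓ p₂ ⁻¹ᵁ (φ ⁻¹ᵁ U)) inf_le_left := by
    rw [← cancel_mono (φ ⁻¹ᵁ U).ι]
    simp only [Category.assoc, Scheme.Hom.resLE_comp_ι, Scheme.Hom.resLE_comp_ι_assoc]
    rw [hσ]
  have hpW : p₂'.resLE (φ' ⁻¹ᵁ (α ⁻¹ᵁ U)) _ inf_le_right ≫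
      pr.resLE (φ ⁻¹ᵁ U) (φ' ⁻¹ᵁ (α ⁻¹ᵁ U)) eV =
      g.resLE _ _ eW ≫ p₂.resLE (φ ⁻¹ᵁ U) (σ ⁻¹ᵁ (φ ⁻¹ᵁ U) ⊓ p₂ ⁻¹ᵁ (φ ⁻¹ᵁ U)) inf_le_right := by
    rw [← cancel_mono (φ ⁻¹ᵁ U).ι]
    simp only [Category.assoc, Scheme.Hom.resLE_comp_ι, Scheme.Hom.resLE_comp_ι_assoc]
    rw [hp]
  exact abstract_descent _ _ _ _ _ _ hpbU _ _ _ hσW hpW
    ((sections_iff φ' σ' p₂' (α ⁻¹ᵁ U) hw').1 (h' (α ⁻¹ᵁ U))).2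

end Groth.Agent.Lib.Helper28.GeomQuotDescent
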