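import Groth.Agent.Lib.Helper28.GIT2.GeomQuotDescent

/-!
# Geometric quotients descend along fpqc base change of the quotient: main theorem (helper28)
-/

set_option autoImplicit false
set_option maxHeartbeats 1600000
universe u
open CategoryTheory CategoryTheory.Limits AlgebraicGeometry MonoidalCategory CartesianMonoidalCategory
  MorphismProperty MonObj

namespace Groth.Agent.Lib.Helper28.GeomQuotDescent

theorem main {S : Scheme.{u}} (G X Y X' Y' : Over S) [GrpObj G]
    (a : AlgGrp.Action G X) (φ : X ⟶ Y) (hinv : GIT.IsInvariant a φ) [QuasiCompact φ.left]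
    (α : Y' ⟶ Y) [Flat α.left] [Surjective α.left] [QuasiCompact α.left]
    (pr : X' ⟶ X) (φ' : X' ⟶ Y') (hpb : IsPullback pr φ' φ α)
    (a' : AlgGrp.Action G X') (heq : a'.act ≫ pr = (G ◁ pr) ≫ a.act)
    (hinv' : GIT.IsInvariant a' φ') (h : GIT.IsGeomQuot a' φ') : GIT.IsGeomQuot a φ := by
  have hpbL : IsPullback pr.left φ'.left φ.left α.left := hpb.map (Over.forget _)
  haveI : QuasiCompact φ'.left :=
    MorphismProperty.of_isPullback (P := @QuasiCompact) hpbL inferInstance
  have hσ : a'.act.left ≫ pr.left = (G ◁ pr).left ≫ a.act.left := by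
    rw [← Over.comp_left, ← Over.comp_left, heq]
  have hp : (snd G X').left ≫ pr.left = (G ◁ pr).left ≫ (snd G X).left := by
    rw [← Over.comp_left, ← Over.comp_left, whiskerLeft_snd]
  refine ⟨hinv, ?_, ?_, ?_, ?_⟩
  · -- surjectivity
    intro y
    obtain ⟨y', rfl⟩ := (inferInstance : Surjective α.left).surj y
    obtain ⟨x', rfl⟩ := h.surj y'
    refine ⟨pr.left x', ?_⟩
    show φ.left (pr.left x') = α.left (φ'.left x')
    rw [← Scheme.Hom.comp_apply, ← Scheme.Hom.comp_apply, hpbL.w]
  · -- orbits
    have hc : (pullback.fst (pullback.fst φ.left φ.left ≫ φ.left) α.left ≫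
        pullback.fst φ.left φ.left) ≫ φ.left =
        pullback.snd (pullback.fst φ.left φ.left ≫ φ.left) α.left ≫ α.left := by
      rw [Category.assoc]
      exact pullback.condition
    have hc2 : (pullback.fst (pullback.fst φ.left φ.left ≫ φ.left) α.left ≫
        pullback.snd φ.left φ.left) ≫ φ.left =
        pullback.snd (pullback.fst φ.left φ.left ≫ φ.left) α.left ≫ α.left := by
      rw [Category.assoc, ← pullback.condition (f := φ.left) (g := φ.left)]
      exact pullback.condition
    obtain ⟨t1, ht1a, ht1b⟩ : ∃ t1 : pullback (pullback.fst φ.left φ.left ≫ φ.left) α.left ⟶ X'.left,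
        t1 ≫ pr.left = pullback.fst (pullback.fst φ.left φ.left ≫ φ.left) α.left ≫
          pullback.fst φ.left φ.left ∧
        t1 ≫ φ'.left = pullback.snd (pullback.fst φ.left φ.left ≫ φ.left) α.left :=
      ⟨hpbL.lift _ _ hc, hpbL.lift_fst _ _ _, hpbL.lift_snd _ _ _⟩
    obtain ⟨t2, ht2a, ht2b⟩ : ∃ t2 : pullback (pullback.fst φ.left φ.left ≫ φ.left) α.left ⟶ X'.left,
        t2 ≫ pr.left = pullback.fst (pullback.fst φ.left φ.left ≫ φ.left) α.left ≫
          pullback.snd φ.left φ.left ∧
        t2 ≫ φ'.left = pullback.snd (pullback.fst φ.left φ.left ≫ φ.left) α.left :=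
      ⟨hpbL.lift _ _ hc2, hpbL.lift_fst _ _ _, hpbL.lift_snd _ _ _⟩
    have htm : pullback.lift t1 t2 (by rw [ht1b, ht2b]) ≫
        pullback.map φ'.left φ'.left φ.left φ.left pr.left pr.left α.left hpbL.w.symm hpbL.w.symm =
        pullback.fst (pullback.fst φ.left φ.left ≫ φ.left) α.left := by
      apply pullback.hom_ext
      · rw [Category.assoc, pullback.lift_fst, pullback.lift_fst_assoc, ht1a]
      · rw [Category.assoc, pullback.lift_snd, pullback.lift_snd_assoc, ht2a]
    have hΨ : (G ◁ pr).left ≫ GIT.PsiY a φ hinv = GIT.PsiY a' φ' h.inv ≫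
        pullback.map φ'.left φ'.left φ.left φ.left pr.left pr.left α.left hpbL.w.symm
          hpbL.w.symm := by
      unfold GIT.PsiY
      apply pullback.hom_ext
      · rw [Category.assoc, pullback.lift_fst, Category.assoc, pullback.lift_fst,
          pullback.lift_fst_assoc, hσ]
      · rw [Category.assoc, pullback.lift_snd, Category.assoc, pullback.lift_snd,
          pullback.lift_snd_assoc, hp]
    intro z
    obtain ⟨w, rfl⟩ := (inferInstance :
      Surjective (pullback.fst (pullback.fst φ.left φ.left ≫ φ.left) α.left)).surj z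
    obtain ⟨c, hc'⟩ := h.orbit (pullback.lift t1 t2 (by rw [ht1b, ht2b]) w)
    refine ⟨(G ◁ pr).left c, ?_⟩
    show (GIT.PsiY a φ hinv) ((G ◁ pr).left c) = _
    rw [← Scheme.Hom.comp_apply, hΨ, Scheme.Hom.comp_apply]
    have hc'' : (GIT.PsiY a' φ' h.inv) c = (pullback.lift t1 t2 (by rw [ht1b, ht2b])) w := hc'
    rw [hc'', ← Scheme.Hom.comp_apply, htm]
  · -- universally submersive
    intro XZ Z i₁ i₂ f' hZ
    have hbig : IsPullback (pullback.fst f' (pullback.fst i₂ α.left) ≫ i₁)
        (pullback.snd f' (pullback.fst i₂ α.left)) φ.left (pullback.fst i₂ α.left ≫ i₂) :=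
      (IsPullback.of_hasPullback f' (pullback.fst i₂ α.left)).paste_horiz hZ.flip
    have hcond : pullback.fst i₂ α.left ≫ i₂ = pullback.snd i₂ α.left ≫ α.left :=
      pullback.condition
    obtain ⟨r, hr1, hr2⟩ : ∃ r : pullback f' (pullback.fst i₂ α.left) ⟶ X'.left,
        r ≫ pr.left = pullback.fst f' (pullback.fst i₂ α.left) ≫ i₁ ∧
        r ≫ φ'.left = pullback.snd f' (pullback.fst i₂ α.left) ≫ pullback.snd i₂ α.left :=
      ⟨hpbL.lift _ _ (by rw [hbig.w, hcond, Category.assoc]), hpbL.lift_fst _ _ _,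
        hpbL.lift_snd _ _ _⟩
    have hq2 : IsPullback r (pullback.snd f' (pullback.fst i₂ α.left)) φ'.left
        (pullback.snd i₂ α.left) := by
      refine IsPullback.of_right ?_ hr2 hpbL
      rw [hr1, ← hcond]
      exact hbig
    have hQ1 : Topology.IsQuotientMap (pullback.snd f' (pullback.fst i₂ α.left)) :=
      h.subm r (pullback.snd i₂ α.left) (pullback.snd f' (pullback.fst i₂ α.left)) hq2.flip
    have hQ2 : Topology.IsQuotientMap (pullback.fst i₂ α.left) :=
      Flat.isQuotientMap_of_surjective _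
    have hQ3 : Topology.IsQuotientMap
        (pullback.snd f' (pullback.fst i₂ α.left) ≫ pullback.fst i₂ α.left) := hQ2.comp hQ1
    rw [← pullback.condition] at hQ3
    exact Topology.IsQuotientMap.of_comp (pullback.fst f' (pullback.fst i₂ α.left)).continuous
      f'.continuous hQ3
  · -- sections
    intro U
    exact sections_descend φ.left a.act.left (snd G X).left hinv.left α.left pr.left φ'.left hpbL
      a'.act.left (snd G X').left hinv'.left (G ◁ pr).left hσ hp h.sections U

end Groth.Agent.Lib.Helper28.GeomQuotDescent
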