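import Groth.Agent.Lib.Helper28.GIT2.GeomQuotDescent2
import Groth.Agent.Lib.Helper28.Torsor.BalProdClosed

/-!
# Universal geometric quotients descend along fpqc base change of the quotient (helper28)
-/

set_option autoImplicit false
set_option maxHeartbeats 1600000
universe u
open CategoryTheory CategoryTheory.Limits AlgebraicGeometry MonoidalCategory CartesianMonoidalCategory
  MorphismProperty MonObj

namespace Groth.Agent.Lib.Helper28.GeomQuotDescent

open Groth.Agent.Lib.Helper28.BalProdClosed

theorem univ {S : Scheme.{u}} (G X Y X' Y' : Over S) [GrpObj G]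
    (a : AlgGrp.Action G X) (φ : X ⟶ Y) (hinv : GIT.IsInvariant a φ) [QuasiCompact φ.left]
    (α : Y' ⟶ Y) [Flat α.left] [Surjective α.left] [QuasiCompact α.left]
    (pr : X' ⟶ X) (φ' : X' ⟶ Y') (hpb : IsPullback pr φ' φ α)
    (a' : AlgGrp.Action G X') (heq : a'.act ≫ pr = (G ◁ pr) ≫ a.act)
    (hinv' : GIT.IsInvariant a' φ') (h : GIT.IsUnivGeomQuot a' φ') : GIT.IsUnivGeomQuot a φ := by
  refine ⟨main G X Y X' Y' a φ hinv α pr φ' hpb a' heq hinv' h.1, ?_⟩
  intro X1 Y1 pr1 φ1 g _ hpb1 a1 heq1 hinv1
  have hpb1L : IsPullback pr1.left φ1.left φ.left g.left := hpb1.map (Over.forget _)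
  haveI : QuasiCompact φ1.left :=
    MorphismProperty.of_isPullback (P := @QuasiCompact) hpb1L inferInstance
  have hYL : IsPullback (pullback.fst g α).left (pullback.snd g α).left g.left α.left :=
    (IsPullback.of_hasPullback g α).map (Over.forget _)
  haveI : Flat (pullback.fst g α).left :=
    MorphismProperty.of_isPullback (P := @Flat) hYL.flip inferInstance
  haveI : Surjective (pullback.fst g α).left :=
    MorphismProperty.of_isPullback (P := @Surjective) hYL.flip inferInstance
  haveI : QuasiCompact (pullback.fst g α).left :=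
    MorphismProperty.of_isPullback (P := @QuasiCompact) hYL.flip inferInstance
  -- notation-free: α1 = pullback.fst g α, β = pullback.snd g α, pr' = pullback.fst φ1 α1,
  -- φ1' = pullback.snd φ1 α1
  have hX1 : IsPullback (pullback.fst φ1 (pullback.fst g α)) (pullback.snd φ1 (pullback.fst g α)) φ1
      (pullback.fst g α) := IsPullback.of_hasPullback _ _
  have hcondY : pullback.fst g α ≫ g = pullback.snd g α ≫ α := pullback.condition
  have hbig : IsPullback (pullback.fst φ1 (pullback.fst g α) ≫ pr1)
      (pullback.snd φ1 (pullback.fst g α)) φ (pullback.fst g α ≫ g) := hX1.paste_horiz hpb1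
  obtain ⟨t, ht1, ht2⟩ : ∃ t : pullback φ1 (pullback.fst g α) ⟶ X',
      t ≫ pr = pullback.fst φ1 (pullback.fst g α) ≫ pr1 ∧
      t ≫ φ' = pullback.snd φ1 (pullback.fst g α) ≫ pullback.snd g α :=
    ⟨hpb.lift _ _ (by rw [hbig.w, hcondY, Category.assoc]), hpb.lift_fst _ _ _,
      hpb.lift_snd _ _ _⟩
  have hpbt : IsPullback t (pullback.snd φ1 (pullback.fst g α)) φ' (pullback.snd g α) := by
    refine IsPullback.of_right ?_ ht2 hpb
    rw [ht1, ← hcondY]
    exact hbig
  -- the induced action
  have hactc : ((G ◁ pullback.fst φ1 (pullback.fst g α)) ≫ a1.act) ≫ φ1 =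
      (snd G (pullback φ1 (pullback.fst g α)) ≫ pullback.snd φ1 (pullback.fst g α)) ≫
        pullback.fst g α := by
    rw [Category.assoc, hinv1, whiskerLeft_snd_assoc, Category.assoc, hX1.w]
  obtain ⟨act, hact1, hact2⟩ : ∃ act : G ⊗ pullback φ1 (pullback.fst g α) ⟶
        pullback φ1 (pullback.fst g α),
      act ≫ pullback.fst φ1 (pullback.fst g α) =
        (G ◁ pullback.fst φ1 (pullback.fst g α)) ≫ a1.act ∧
      act ≫ pullback.snd φ1 (pullback.fst g α) =
        snd G (pullback φ1 (pullback.fst g α)) ≫ pullback.snd φ1 (pullback.fst g α) :=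
    ⟨pullback.lift _ _ hactc, pullback.lift_fst _ _ _, pullback.lift_snd _ _ _⟩
  have hact2' : act ≫ pullback.snd φ1 (pullback.fst g α) =
      (G ◁ pullback.snd φ1 (pullback.fst g α)) ≫
        (AlgGrp.Action.trivial G (pullback g α)).act := by
    rw [hact2]
    exact (whiskerLeft_snd _ _).symm
  let a1' : AlgGrp.Action G (pullback φ1 (pullback.fst g α)) :=
    actionOfJointlyMono (pullback.fst φ1 (pullback.fst g α)) (pullback.snd φ1 (pullback.fst g α))
      (fun u v h1 h2 => pullback.hom_ext h1 h2) a1 (AlgGrp.Action.trivial G (pullback g α)) act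
      hact1 hact2'
  have ha1' : a1'.act = act := rfl
  have hinv1' : GIT.IsInvariant a1' (pullback.snd φ1 (pullback.fst g α)) := by
    unfold GIT.IsInvariant
    rw [ha1', hact2]
  have heqt : a1'.act ≫ t = (G ◁ t) ≫ a'.act := by
    rw [ha1']
    apply hpb.hom_ext
    · rw [Category.assoc, ht1, ← Category.assoc, hact1, Category.assoc, heq1, Category.assoc, heq,
        ← MonoidalCategory.whiskerLeft_comp_assoc, ← MonoidalCategory.whiskerLeft_comp_assoc, ht1]
    · rw [Category.assoc, ht2, ← Category.assoc, hact2, Category.assoc, Category.assoc, hinv',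
        whiskerLeft_snd_assoc, ht2]
  have hgq : GIT.IsGeomQuot a1' (pullback.snd φ1 (pullback.fst g α)) :=
    h.2 t (pullback.snd φ1 (pullback.fst g α)) (pullback.snd g α) trivial hpbt a1' heqt hinv1'
  exact main G X1 Y1 (pullback φ1 (pullback.fst g α)) (pullback g α) a1 φ1 hinv1 (pullback.fst g α)
    (pullback.fst φ1 (pullback.fst g α)) (pullback.snd φ1 (pullback.fst g α)) hX1 a1'
    (by rw [ha1', hact1]) hinv1' hgq

end Groth.Agent.Lib.Helper28.GeomQuotDescent
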